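import Groth.Agent.Jacobson.FppfDescent
import Mathlib.Algebra.MvPolynomial.Funext
import Mathlib.RingTheory.AlgebraicIndependent.Transcendental

/-!
# Algebraic points of the generic fibre below a given closed point of the special fibre

Over a valuation ring, a finite type domain has, below any closed point of the special fibre and
outside any given proper closed subset, a point of the generic fibre with algebraic residue field.
-/

set_option autoImplicit false

universe u

namespace Groth.Agent.FMClosedSpec

/-- A finite injective map from a polynomial ring to a finitely generated algebra can be normalized so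
that a given closed point lies over the origin. -/
theorem exists_finite_inj_origin (k A : Type u) [Field k] [CommRing A] [Algebra k A]
    [Algebra.FiniteType k A] (q : Ideal A) [q.IsMaximal] :
    ∃ (r : ℕ) (g : MvPolynomial (Fin r) k →ₐ[k] A), Function.Injective g ∧ g.toRingHom.Finite ∧
      q.comap g.toRingHom = RingHom.ker (MvPolynomial.constantCoeff (σ := Fin r) (R := k)) := by
  have : Nontrivial A := nontrivial_iff.2 ⟨0, 1, fun h =>
    Ideal.IsPrime.ne_top inferInstance ((Ideal.eq_top_iff_one q).2 (h ▸ q.zero_mem))⟩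
  obtain ⟨r, g, hg, hgf⟩ := exists_finite_inj_algHom_of_fg k A
  let := Ideal.Quotient.field q
  have : Module.Finite k (A ⧸ q) := finite_of_finite_type_of_isJacobsonRing k (A ⧸ q)
  let f : Fin r → Polynomial k := fun i => minpoly k (Ideal.Quotient.mkₐ k q (g (MvPolynomial.X i)))
  have hfm : ∀ i, (f i).Monic := fun i => minpoly.monic (IsIntegral.of_finite k _)
  let h : MvPolynomial (Fin r) k →ₐ[k] MvPolynomial (Fin r) k :=
    MvPolynomial.aeval fun i => Polynomial.aeval (MvPolynomial.X i : MvPolynomial (Fin r) k) (f i)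
  have hinj : Function.Injective h := by
    refine MvPolynomial.algebraicIndependent_polynomial_aeval_X f fun i => ?_
    refine Polynomial.transcendental (f i) (minpoly.natDegree_pos (IsIntegral.of_finite k _)).ne' ?_
    exact mem_nonZeroDivisors_of_ne_zero (by rw [(hfm i).leadingCoeff]; exact one_ne_zero)
  have hint : h.toRingHom.IsIntegral := by
    intro p
    induction p using MvPolynomial.induction_on with
    | C a =>
      rw [show (MvPolynomial.C a : MvPolynomial (Fin r) k) = h.toRingHom (MvPolynomial.C a) from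
        (h.commutes a).symm]
      exact h.toRingHom.isIntegralElem_map
    | add p p' hp hp' => exact hp.add _ hp'
    | mul_X p i hp =>
      refine hp.mul _ ⟨(f i).map MvPolynomial.C - Polynomial.C (MvPolynomial.X i), ?_, ?_⟩
      · refine ((hfm i).map _).sub_of_left ?_
        refine Polynomial.degree_C_le.trans_lt ?_
        rw [Polynomial.degree_map_eq_of_injective (MvPolynomial.C_injective _ _),
          Polynomial.degree_eq_natDegree (hfm i).ne_zero]
        exact_mod_cast minpoly.natDegree_pos (IsIntegral.of_finite k _)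
      · rw [Polynomial.eval₂_sub, Polynomial.eval₂_map, Polynomial.eval₂_C,
          show h.toRingHom (MvPolynomial.X i) = h (MvPolynomial.X i) from rfl,
          show h (MvPolynomial.X i) = Polynomial.aeval (MvPolynomial.X i) (f i) from MvPolynomial.aeval_X _ _,
          show h.toRingHom.comp MvPolynomial.C = algebraMap k (MvPolynomial (Fin r) k) from h.comp_algebraMap,
          ← Polynomial.aeval_def, sub_self]
  have hfin : h.toRingHom.Finite := by
    refine hint.to_finite (RingHom.FiniteType.of_comp_finiteType (f := algebraMap k _) ?_)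
    rw [show h.toRingHom.comp (algebraMap k _) = algebraMap k (MvPolynomial (Fin r) k) from h.comp_algebraMap]
    exact RingHom.finiteType_algebraMap.2 inferInstance
  refine ⟨r, g.comp h, hg.comp hinj, RingHom.Finite.comp hgf hfin, ?_⟩
  have : (RingHom.ker (MvPolynomial.constantCoeff (σ := Fin r) (R := k))).IsMaximal :=
    RingHom.ker_isMaximal_of_surjective _ fun a => ⟨MvPolynomial.C a, MvPolynomial.constantCoeff_C _ a⟩
  refine (this.eq_of_le (Ideal.IsPrime.comap _ : (q.comap (g.comp h).toRingHom).IsPrime).ne_top ?_).symm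
  intro p hp
  have key : (Ideal.Quotient.mk q).comp (g.comp h).toRingHom =
      (algebraMap k (A ⧸ q)).comp MvPolynomial.constantCoeff := by
    refine MvPolynomial.ringHom_ext (fun a => ?_) (fun i => ?_)
    · show Ideal.Quotient.mk q (g (h (MvPolynomial.C a))) = algebraMap k (A ⧸ q) _
      rw [show h (MvPolynomial.C a) = MvPolynomial.C a from h.commutes a,
        show g (MvPolynomial.C a) = algebraMap k A a from g.commutes a, MvPolynomial.constantCoeff_C]
      rfl
    · show Ideal.Quotient.mkₐ k q (g (h (MvPolynomial.X i))) = algebraMap k (A ⧸ q) _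
      rw [show h (MvPolynomial.X i) = Polynomial.aeval (MvPolynomial.X i) (f i) from MvPolynomial.aeval_X _ _,
        ← Polynomial.aeval_algHom_apply, ← Polynomial.aeval_algHom_apply, minpoly.aeval,
        MvPolynomial.constantCoeff_X, map_zero]
  show (g.comp h).toRingHom p ∈ q
  rw [← Ideal.Quotient.eq_zero_iff_mem]
  refine (RingHom.congr_fun key p).trans ?_
  show algebraMap k (A ⧸ q) (MvPolynomial.constantCoeff p) = 0
  rw [show MvPolynomial.constantCoeff p = 0 from hp, map_zero]

/-- A nonzero polynomial is nonzero at some point with coordinates in the maximal ideal of a local domain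
which is not a field. -/
theorem exists_eval_ne_zero (V : Type u) [CommRing V] [IsDomain V] [IsLocalRing V] (hV : ¬ IsField V) {σ : Type*}
    {N : MvPolynomial σ V} (hN : N ≠ 0) :
    ∃ ε : σ → V, (∀ i, ε i ∈ IsLocalRing.maximalIdeal V) ∧ MvPolynomial.eval ε N ≠ 0 := by
  have hm : (IsLocalRing.maximalIdeal V : Set V).Infinite := by
    intro hfin
    obtain ⟨a, ha, ha0⟩ := Submodule.exists_mem_ne_zero_of_ne_bot
      (IsLocalRing.isField_iff_maximalIdeal_eq.not.1 hV)
    have : Finite (IsLocalRing.maximalIdeal V) := hfin.to_subtype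
    have : Finite V := Finite.of_injective (β := IsLocalRing.maximalIdeal V)
      (fun v => ⟨a * v, Ideal.mul_mem_right v _ ha⟩) fun v w h => mul_left_cancel₀ ha0 (congrArg Subtype.val h)
    exact hV (Finite.isField_of_domain V)
  by_contra! hc
  exact hN (MvPolynomial.funext_set (fun _ => (IsLocalRing.maximalIdeal V : Set V)) (fun _ => hm) fun ε hε => by
    rw [map_zero]
    exact hc ε fun i => hε i (Set.mem_univ i))

/-- The core statement over a valuation ring. -/
theorem exists_algebraic_prime_le (V R : Type u) [CommRing V] [IsDomain V] [ValuationRing V]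
    [CommRing R] [IsDomain R] [Algebra V R] [FaithfulSMul V R] [Algebra.FiniteType V R] [IsIntegrallyClosed V]
    (hV : ¬ IsField V) (q : Ideal R) [q.IsMaximal]
    (hmq : (IsLocalRing.maximalIdeal V).map (algebraMap V R) ≤ q) {g₀ : R} (hg₀ : g₀ ≠ 0) :
    ∃ (L : Type u) (_ : Field L) (_ : Algebra V L) (ρ : R →ₐ[V] L),
      Function.Injective (algebraMap V L) ∧ (∀ x, IsAlgebraic V (ρ x)) ∧
      RingHom.ker ρ ≤ q ∧ ρ g₀ ≠ 0 := by
  let m := IsLocalRing.maximalIdeal V
  let J := m.map (algebraMap V R)
  let := Ideal.Quotient.field m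
  have hJ : m ≤ J.comap (algebraMap V R) := Ideal.le_comap_map
  let : Algebra (V ⧸ m) (R ⧸ J) := (Ideal.quotientMap J (algebraMap V R) hJ).toAlgebra
  have : IsScalarTower V (V ⧸ m) (R ⧸ J) := IsScalarTower.of_algebraMap_eq fun v => rfl
  have : Algebra.FiniteType (V ⧸ m) (R ⧸ J) := Algebra.FiniteType.of_restrictScalars_finiteType V (V ⧸ m) (R ⧸ J)
  have hker : RingHom.ker (Ideal.Quotient.mk J) ≤ q := by rwa [Ideal.mk_ker]
  have : (q.map (Ideal.Quotient.mk J)).IsMaximal :=
    Ideal.IsMaximal.map_of_surjective_of_ker_le Ideal.Quotient.mk_surjective hker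
  obtain ⟨r, g, hg, hgf, hgq⟩ := exists_finite_inj_origin (V ⧸ m) (R ⧸ J) (q.map (Ideal.Quotient.mk J))
  choose y hy using fun i => Ideal.Quotient.mk_surjective (g (MvPolynomial.X i))
  let P := MvPolynomial (Fin r) V
  let φ : P →ₐ[V] R := MvPolynomial.aeval y
  let σ : P →+* MvPolynomial (Fin r) (V ⧸ m) := MvPolynomial.map (Ideal.Quotient.mk m)
  have hσ : Function.Surjective σ := MvPolynomial.map_surjective _ Ideal.Quotient.mk_surjective
  have hcomm : ∀ h, Ideal.Quotient.mk J (φ h) = g (σ h) := fun h => by
    refine RingHom.congr_fun (f := (Ideal.Quotient.mk J).comp φ.toRingHom) (g := g.toRingHom.comp σ)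
      (MvPolynomial.ringHom_ext (fun v => ?_) (fun i => ?_)) h
    · show Ideal.Quotient.mk J (φ (MvPolynomial.C v)) = g (σ (MvPolynomial.C v))
      rw [show φ (MvPolynomial.C v) = algebraMap V R v from φ.commutes v,
        show σ (MvPolynomial.C v) = algebraMap (V ⧸ m) _ (Ideal.Quotient.mk m v) from MvPolynomial.map_C _ v,
        g.commutes]
      rfl
    · show Ideal.Quotient.mk J (φ (MvPolynomial.X i)) = g (σ (MvPolynomial.X i))
      rw [show φ (MvPolynomial.X i) = y i from MvPolynomial.aeval_X _ _,
        show σ (MvPolynomial.X i) = MvPolynomial.X i from MvPolynomial.map_X _ _, hy]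
  have hφ : Function.Injective φ := by
    rw [injective_iff_map_eq_zero]
    intro h hh
    by_contra hne0
    obtain ⟨c, hc0, hcd, hdvd⟩ : ∃ c : V, c ≠ 0 ∧ c ∈ h.coeffs ∧ ∀ c' ∈ h.coeffs, c ∣ c' := by
      have hs : h.coeffs.Nonempty := by
        obtain ⟨d, hd⟩ := MvPolynomial.ne_zero_iff.1 hne0
        exact ⟨_, MvPolynomial.coeff_mem_coeffs d hd⟩
      have key : ∀ s : Finset V, s.Nonempty → ∃ c ∈ s, ∀ c' ∈ s, c ∣ c' := by
        intro s hs
        induction hs using Finset.Nonempty.cons_induction with
        | singleton a => exact ⟨a, by simp, by simp⟩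
        | cons a s ha hs ih =>
          obtain ⟨c, hc, hcd⟩ := ih
          rcases ValuationRing.dvd_total a c with h | h
          · exact ⟨a, by simp, fun c' hc' => by
              rcases Finset.mem_cons.1 hc' with rfl | hc'
              exacts [dvd_rfl, h.trans (hcd c' hc')]⟩
          · exact ⟨c, by simp [hc], fun c' hc' => by
              rcases Finset.mem_cons.1 hc' with rfl | hc'
              exacts [h, hcd c' hc']⟩
      obtain ⟨c, hc, hcd⟩ := key _ hs
      exact ⟨c, fun h0 => MvPolynomial.zero_notMem_coeffs h (h0 ▸ hc), hc, hcd⟩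
    obtain ⟨h', rfl⟩ : MvPolynomial.C c ∣ h := (MvPolynomial.C_dvd_iff_dvd_coeff c h).2 fun d => by
      by_cases hd : h.coeff d = 0
      · simp [hd]
      · exact hdvd _ (MvPolynomial.coeff_mem_coeffs d hd)
    have h0 : φ h' = 0 := by
      rw [map_mul] at hh
      refine (mul_eq_zero.1 hh).resolve_left ?_
      rw [show φ (MvPolynomial.C c) = algebraMap V R c from φ.commutes c]
      exact fun h0 => hc0 (FaithfulSMul.algebraMap_injective V R (h0.trans (map_zero _).symm))
    have hz : σ h' = 0 := hg (by rw [← hcomm, h0, map_zero, map_zero])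
    obtain ⟨d, -, hd⟩ := MvPolynomial.mem_coeffs_iff.1 hcd
    have : Ideal.Quotient.mk m (h'.coeff d) = 0 :=
      (MvPolynomial.coeff_map (Ideal.Quotient.mk m) h' d).symm.trans
        ((congrArg (MvPolynomial.coeff d) hz).trans (MvPolynomial.coeff_zero d))
    rw [MvPolynomial.coeff_C_mul] at hd
    have hu : h'.coeff d = 1 := (mul_right_eq_self₀.1 hd.symm).resolve_right hc0
    rw [hu] at this
    exact m.ne_top_iff_one.1 (Ideal.IsPrime.ne_top inferInstance) (Ideal.Quotient.eq_zero_iff_mem.1 this)
  let : Algebra P R := φ.toRingHom.toAlgebra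
  have : IsScalarTower V P R := IsScalarTower.of_algebraMap_eq fun v => (φ.commutes v).symm
  have : Algebra.FiniteType P R := Algebra.FiniteType.of_restrictScalars_finiteType V P R
  have := Groth.Agent.Jacobson.isIntegrallyClosed_mvPolynomial V r
  have hqq : (q.map (Ideal.Quotient.mk J)).comap (Ideal.Quotient.mk J) = q := by
    rw [Ideal.comap_map_of_surjective _ Ideal.Quotient.mk_surjective, ← RingHom.ker_eq_comap_bot,
      sup_eq_left.2 hker]
  have hc : ∀ h : P, h ∈ q.under P ↔ MvPolynomial.constantCoeff h ∈ m := fun h => by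
    show φ h ∈ q ↔ _
    rw [← hqq, Ideal.mem_comap, hcomm, ← Ideal.Quotient.eq_zero_iff_mem (I := m),
      ← MvPolynomial.constantCoeff_map (Ideal.Quotient.mk m) h]
    show σ h ∈ (q.map (Ideal.Quotient.mk J)).comap g.toRingHom ↔ _
    rw [hgq]; rfl
  -- quasi-finiteness at the point
  have hZ : Algebra.ZariskisMainProperty P q := by
    let J' := (q.under P).map (algebraMap P R)
    have hJJ : J ≤ J' := Ideal.map_le_iff_le_comap.2 fun v hv => by
      show algebraMap V R v ∈ J'
      rw [IsScalarTower.algebraMap_apply V P R]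
      exact Ideal.mem_map_of_mem _ ((hc _).2 (by rw [MvPolynomial.algebraMap_eq, MvPolynomial.constantCoeff_C]; exact hv))
    have hfin : (algebraMap P (R ⧸ J')).Finite := by
      have e : algebraMap P (R ⧸ J') = (Ideal.Quotient.factor hJJ).comp (g.toRingHom.comp σ) := by
        refine RingHom.ext fun h => ?_
        exact congrArg (Ideal.Quotient.factor hJJ) (hcomm h)
      rw [e]
      exact Groth.Agent.Jacobson.finite_comp_comp (π := Ideal.Quotient.factor hJJ) (g := g.toRingHom) hσ hgf
        (Ideal.Quotient.factor_surjective hJJ)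
    have : Module.Finite P (R ⧸ J') := RingHom.finite_algebraMap.1 hfin
    have : Algebra.WeaklyQuasiFiniteAt P q := by
      unfold Algebra.WeaklyQuasiFiniteAt
      infer_instance
    exact .of_finiteType_of_weaklyQuasiFiniteAt q
  obtain ⟨s, hsc, hs⟩ := hZ
  let P' := integralClosure P R
  have : FaithfulSMul P R := (faithfulSMul_iff_algebraMap_injective P R).2 hφ
  have hpow : ∀ x : R, ∃ (n : ℕ) (z : P'), s.1 ^ n * x = z.1 := fun x => by
    obtain ⟨n, z, hz⟩ := (Localization.awayMap_surjective_iff).1 hs.2 x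
    refine ⟨z, n, ?_⟩
    exact hz.symm
  -- a polynomial cutting out the bad locus, and a rational point avoiding it
  obtain ⟨n₀, z₀, hz₀⟩ := hpow g₀
  have hz₀0 : z₀ ≠ 0 := fun h0 => by
    have : s.1 ^ n₀ * g₀ = 0 := by rw [hz₀, h0]; rfl
    rcases mul_eq_zero.1 this with h | h
    · exact hsc ((pow_eq_zero_iff'.1 h).1 ▸ q.zero_mem)
    · exact hg₀ h
  have : Algebra.IsIntegral P P' := integralClosure.AlgebraIsIntegral
  obtain ⟨N, hN0, hN⟩ := (Algebra.IsIntegral.isIntegral (R := P) z₀).isAlgebraic.exists_nonzero_dvd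
    (mem_nonZeroDivisors_of_ne_zero hz₀0)
  obtain ⟨ε, hεm, hεN⟩ := exists_eval_ne_zero V hV hN0
  let p₀ : Ideal P := RingHom.ker (MvPolynomial.eval ε)
  have : p₀.IsPrime := RingHom.ker_isPrime _
  let c' : Ideal P' := q.comap P'.val.toRingHom
  have hq : p₀ ≤ q.under P := fun h hh => (hc h).2 (by
    rw [← Ideal.Quotient.eq_zero_iff_mem]
    have e : (Ideal.Quotient.mk m).comp (MvPolynomial.constantCoeff (σ := Fin r)) =
        (Ideal.Quotient.mk m).comp (MvPolynomial.eval ε) := MvPolynomial.ringHom_ext
      (fun v => by simp) (fun i => by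
        simp only [RingHom.comp_apply, MvPolynomial.constantCoeff_X, map_zero, MvPolynomial.eval_X]
        exact (Ideal.Quotient.eq_zero_iff_mem.2 (hεm i)).symm)
    refine (RingHom.congr_fun e h).trans ?_
    rw [RingHom.comp_apply, show MvPolynomial.eval ε h = 0 from hh, map_zero])
  have : c'.LiesOver (q.under P) := ⟨rfl⟩
  -- going down to the chosen point of the generic fibre
  obtain ⟨d₁, hd₁p, hd₁, hd₁o⟩ := c'.exists_ideal_le_liesOver_of_le (p := p₀) (q := q.under P) hq
  have hz₀d : z₀ ∉ d₁ := fun h => hεN (by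
    have : algebraMap P P' N ∈ d₁ := d₁.mem_of_dvd hN h
    have : N ∈ p₀ := by rw [hd₁o.over]; exact this
    exact this)
  let L := FractionRing (P' ⧸ d₁)
  let f₁ : P' →+* L := (algebraMap (P' ⧸ d₁) L).comp (Ideal.Quotient.mk d₁)
  have hf₁ : ∀ z, f₁ z = 0 ↔ z ∈ d₁ := fun z => by
    rw [← Ideal.Quotient.eq_zero_iff_mem, ← (IsFractionRing.injective (P' ⧸ d₁) L).eq_iff, map_zero]
    rfl
  have hs1 : IsUnit (f₁ s) := isUnit_iff_ne_zero.2 fun h0 => hsc (hd₁p ((hf₁ _).1 h0))
  let e := RingEquiv.ofBijective _ hs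
  let ρ₀ : R →+* L :=
    (IsLocalization.Away.lift s hs1).comp (e.symm.toRingHom.comp (algebraMap R (Localization.Away _)))
  have hρ₀ : ∀ z : P', ρ₀ z.1 = f₁ z := fun z => by
    have : e.symm (algebraMap R _ z.1) = algebraMap P' (Localization.Away s) z := by
      rw [RingEquiv.symm_apply_eq]
      simp only [e, RingEquiv.ofBijective_apply, Localization.awayMap, IsLocalization.Away.map]
      erw [IsLocalization.map_eq]
      rfl
    show IsLocalization.Away.lift s hs1 (e.symm (algebraMap R _ z.1)) = _
    rw [this, IsLocalization.Away.lift_eq]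
  let : Algebra V L := (ρ₀.comp (algebraMap V R)).toAlgebra
  let ρ : R →ₐ[V] L := ⟨ρ₀, fun _ => rfl⟩
  have hVf : ∀ v : V, algebraMap V L v = f₁ (algebraMap P P' (MvPolynomial.C v)) := fun v => by
    rw [← hρ₀]
    exact congrArg ρ₀ (φ.commutes v).symm
  refine ⟨L, inferInstance, inferInstance, ρ, ?_, ?_, ?_, ?_⟩
  · rw [injective_iff_map_eq_zero]
    intro v hv
    rw [hVf, hf₁] at hv
    have : MvPolynomial.C v ∈ p₀ := by rw [hd₁o.over]; exact hv
    simpa [p₀] using this
  · intro x
    have key : ∀ z : P', IsIntegral V (f₁ z) := fun z => by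
      obtain ⟨p, hp, hz⟩ := z.2
      refine ⟨p.map (MvPolynomial.eval ε), hp.map _, ?_⟩
      have hc0 : ∀ h : P, f₁ (algebraMap P P' h) = algebraMap V L (MvPolynomial.eval ε h) := fun h => by
        rw [hVf, ← sub_eq_zero, ← map_sub, ← map_sub, hf₁]
        have : h - MvPolynomial.C (MvPolynomial.eval ε h) ∈ p₀ := by
          show MvPolynomial.eval ε _ = (0 : V)
          rw [map_sub, MvPolynomial.eval_C, sub_self]
        rw [hd₁o.over] at this
        exact this
      rw [Polynomial.eval₂_map, show (algebraMap V L).comp (MvPolynomial.eval ε) =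
        f₁.comp (algebraMap P P') from RingHom.ext fun h => (hc0 h).symm]
      have hz' : Polynomial.eval₂ (algebraMap P P') z p = 0 := Subtype.val_injective (by
        rw [show ((Polynomial.eval₂ (algebraMap P P') z p : P') : R) = P'.val (Polynomial.aeval z p) from rfl,
          ← Polynomial.aeval_algHom_apply]
        exact hz)
      rw [← Polynomial.hom_eval₂, hz', map_zero]
    obtain ⟨k, z, hz⟩ := hpow x
    have hzx : ρ x = f₁ z * (f₁ s ^ k)⁻¹ := by
      rw [eq_mul_inv_iff_mul_eq₀ (pow_ne_zero _ hs1.ne_zero), ← hρ₀, ← hρ₀, ← map_pow, mul_comm]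
      show ρ₀ (s.1 ^ k) * ρ₀ x = _
      rw [← map_mul, hz]
    rw [hzx]
    exact (key z).isAlgebraic.mul ((key s).isAlgebraic.pow k).inv
  · intro x hx
    obtain ⟨k, z, hz⟩ := hpow x
    have : z ∈ d₁ := (hf₁ _).1 (by rw [← hρ₀, ← hz, map_mul, show ρ₀ x = 0 from hx, mul_zero])
    have hzc : s.1 ^ k * x ∈ q := by rw [hz]; exact hd₁p this
    exact ((inferInstance : q.IsPrime).mem_or_mem hzc).resolve_left
      fun h => hsc ((inferInstance : q.IsPrime).mem_of_pow_mem _ h)
  · intro h0
    refine hz₀d ((hf₁ _).1 ?_)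
    rw [← hρ₀, ← hz₀, map_mul, show ρ₀ g₀ = 0 from h0, mul_zero]

end Groth.Agent.FMClosedSpec
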