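import Groth.Agent.FMClosedSpecLib.Core

/-!
# Generalizations with algebraic residue field

For an extension `A ⊆ B` of domains of finite type, a prime of `B` closed in its fibre and not over
`0` has generalizations closed in the generic fibre and avoiding a given nonzero element.
-/

set_option autoImplicit false

universe u

namespace Groth.Agent.FMClosedSpec

theorem exists_prime_closed_in_generic_fibre (A B : Type u) [CommRing A] [IsDomain A] [CommRing B]
    [IsDomain B] [Algebra A B] [FaithfulSMul A B] [Algebra.FiniteType A B]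
    (q : Ideal B) [q.IsPrime] (hq : q.under A ≠ ⊥)
    (hqmax : ∀ Q : Ideal B, Q.IsPrime → q ≤ Q → Q.under A = q.under A → Q = q)
    {g : B} (hg : g ≠ 0) :
    ∃ Q : Ideal B, Q.IsPrime ∧ Q ≤ q ∧ g ∉ Q ∧ Q.under A = ⊥ ∧
      ∀ Q₁ : Ideal B, Q₁.IsPrime → Q ≤ Q₁ → Q₁.under A = ⊥ → Q₁ = Q := by
  let K := FractionRing A
  let L := FractionRing B
  let fq : Localization.AtPrime q →+* L := IsLocalization.lift (M := q.primeCompl)
    (g := algebraMap B L) fun y => isUnit_iff_ne_zero.2
      ((map_ne_zero_iff _ (IsFractionRing.injective B L)).2 fun h => y.2 (h ▸ q.zero_mem))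
  obtain ⟨W, hW, hWloc⟩ := IsLocalRing.exists_factor_valuationRing fq
  have hfq : ∀ b : B, fq (algebraMap B _ b) = algebraMap B L b := fun b => IsLocalization.lift_eq _ _
  have hBW : ∀ b : B, algebraMap B L b ∈ W := fun b => hfq b ▸ hW _
  let w : B →+* W := (algebraMap B L).codRestrict W.toSubring hBW
  have hwm : ∀ b : B, w b ∈ IsLocalRing.maximalIdeal W ↔ b ∈ q := fun b => by
    have e : w b = (fq.codRestrict W.toSubring hW) (algebraMap B _ b) := Subtype.ext (hfq b).symm
    rw [IsLocalRing.mem_maximalIdeal, mem_nonunits_iff, e]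
    constructor
    · intro h
      by_contra hb
      exact h ((IsLocalization.map_units _ (⟨b, hb⟩ : q.primeCompl)).map _)
    · intro hb h
      have := (isUnit_map_iff (fq.codRestrict W.toSubring hW) _).1 h
      exact ((IsLocalization.AtPrime.isUnit_to_map_iff (Localization.AtPrime q) q b).1 this) hb
  have hinjA : Function.Injective ((algebraMap B L).comp (algebraMap A B)) :=
    (IsFractionRing.injective B L).comp (FaithfulSMul.algebraMap_injective A B)
  let i : K →+* L := IsFractionRing.lift hinjA
  have hi : ∀ a, i (algebraMap A K a) = algebraMap B L (algebraMap A B a) :=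
    fun a => IsFractionRing.lift_algebraMap hinjA a
  let V : ValuationSubring K := W.comap i
  let iV : V →+* L := i.comp V.subtype
  let : Algebra V L := iV.toAlgebra
  let : Algebra A V := ((algebraMap A K).codRestrict V.toSubring fun a => by
    show i (algebraMap A K a) ∈ W
    rw [hi]; exact hBW _).toAlgebra
  have : IsScalarTower A V K := IsScalarTower.of_algebraMap_eq fun _ => rfl
  have hAV : ∀ a : A, algebraMap V L (algebraMap A V a) = algebraMap B L (algebraMap A B a) := hi
  obtain ⟨s, hs⟩ := (‹Algebra.FiniteType A B›).out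
  let R : Subalgebra V L := Algebra.adjoin V (algebraMap B L '' (s : Set B))
  have hBR : ∀ b : B, algebraMap B L b ∈ R := fun b => by
    have hb : b ∈ Algebra.adjoin A (s : Set B) := by rw [hs]; trivial
    induction hb using Algebra.adjoin_induction with
    | mem x hx => exact Algebra.subset_adjoin ⟨x, hx, rfl⟩
    | algebraMap a => rw [← hAV]; exact R.algebraMap_mem _
    | add x y _ _ hx hy => rw [map_add]; exact R.add_mem hx hy
    | mul x y _ _ hx hy => rw [map_mul]; exact R.mul_mem hx hy
  have hRW : ∀ x : R, (x : L) ∈ W := fun x => by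
    obtain ⟨x, hx⟩ := x
    show x ∈ W
    induction hx using Algebra.adjoin_induction with
    | mem x hx => obtain ⟨b, -, rfl⟩ := hx; exact hBW b
    | algebraMap v => exact v.2
    | add x y _ _ hx hy => exact W.add_mem _ _ hx hy
    | mul x y _ _ hx hy => exact W.mul_mem _ _ hx hy
  let ψ : B →+* R := (algebraMap B L).codRestrict R hBR
  let ω : R →+* W := R.val.toRingHom.codRestrict W.toSubring hRW
  have : Algebra.FiniteType V R :=
    (Subalgebra.fg_iff_finiteType R).1 (Subalgebra.fg_def.2 ⟨_, s.finite_toSet.image _, rfl⟩)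
  have hiV : Function.Injective (algebraMap V L) := i.injective.comp Subtype.val_injective
  have : FaithfulSMul V R := by
    rw [faithfulSMul_iff_algebraMap_injective]
    exact fun v v' h => hiV (congrArg Subtype.val h)
  -- the maximal ideal of `V` maps into that of `W`
  have hloc : ∀ v ∈ IsLocalRing.maximalIdeal V, ω (algebraMap V R v) ∈ IsLocalRing.maximalIdeal W := by
    intro v hv
    rw [IsLocalRing.mem_maximalIdeal, mem_nonunits_iff] at hv ⊢
    intro hu
    obtain ⟨u, hu⟩ := isUnit_iff_exists_inv.1 hu
    have h1 : i (v : K) * (u : L) = 1 := congrArg Subtype.val hu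
    have hv0 : (v : K) ≠ 0 := fun h => by rw [h, map_zero, zero_mul] at h1; exact zero_ne_one h1
    refine hv (isUnit_iff_exists_inv.2 ⟨⟨(v : K)⁻¹, ?_⟩, Subtype.ext (mul_inv_cancel₀ hv0)⟩)
    show i (v : K)⁻¹ ∈ W
    rw [map_inv₀, inv_eq_of_mul_eq_one_right h1]
    exact u.2
  let n : Ideal R := (IsLocalRing.maximalIdeal W).comap ω
  obtain ⟨M, hM, hnM⟩ := n.exists_le_maximal (Ideal.IsPrime.comap ω).ne_top
  have hmM : IsLocalRing.maximalIdeal V ≤ M.comap (algebraMap V R) := fun v hv => hnM (hloc v hv)
  have hMV : IsLocalRing.maximalIdeal V = M.comap (algebraMap V R) :=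
    (IsLocalRing.maximalIdeal.isMaximal V).eq_of_le (Ideal.IsPrime.comap _ : (M.comap (algebraMap V R)).IsPrime).ne_top hmM
  have hψA : ∀ a, ψ (algebraMap A B a) = algebraMap V R (algebraMap A V a) := fun a => Subtype.ext (hAV a).symm
  have hωψ : ∀ b, ω (ψ b) = w b := fun b => Subtype.ext rfl
  have hMq : M.comap ψ = q := by
    have hle : q ≤ M.comap ψ := fun b hb => hnM (show ω (ψ b) ∈ _ by rw [hωψ, hwm]; exact hb)
    refine hqmax _ inferInstance hle (le_antisymm (fun a ha => ?_) (Ideal.comap_mono hle))
    have ha' : algebraMap A V a ∈ IsLocalRing.maximalIdeal V := by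
      rw [hMV, Ideal.mem_comap, ← hψA]; exact ha
    have := hloc _ ha'
    rw [← hψA, hωψ, hwm] at this
    exact this
  have hV : ¬ IsField V := by
    obtain ⟨a, ha, ha0⟩ := Submodule.exists_mem_ne_zero_of_ne_bot hq
    intro hF
    refine ha0 (IsFractionRing.injective A K ?_)
    have : algebraMap A V a ∈ IsLocalRing.maximalIdeal V := by
      rw [hMV, Ideal.mem_comap, ← hψA, ← Ideal.mem_comap, hMq]; exact ha
    rw [(IsLocalRing.isField_iff_maximalIdeal_eq.1 hF), Ideal.mem_bot] at this
    rw [map_zero]; exact congrArg Subtype.val this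
  have hψ : Function.Injective ψ := fun x y h => IsFractionRing.injective B L (congrArg Subtype.val h)
  obtain ⟨L', _, _, ρ, hVL, halg, hker, hρg⟩ := exists_algebraic_prime_le V R hV M
    (Ideal.map_le_iff_le_comap.2 hmM) ((map_ne_zero_iff _ hψ).2 hg)
  let : Algebra A L' := ((algebraMap V L').comp (algebraMap A V)).toAlgebra
  have : IsScalarTower A V L' := IsScalarTower.of_algebraMap_eq fun _ => rfl
  let ρB : B →ₐ[A] L' :=
    { toRingHom := ρ.toRingHom.comp ψ
      commutes' := fun a => by
        show ρ (ψ (algebraMap A B a)) = _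
        rw [hψA, AlgHom.commutes]; rfl }
  have hinjA' : Function.Injective (algebraMap A L') := hVL.comp fun x y h =>
    IsFractionRing.injective A K (congrArg Subtype.val h)
  refine ⟨RingHom.ker ρB.toRingHom, RingHom.ker_isPrime _, fun b hb => ?_, hρg, ?_, fun Q₁ hQ₁ hle h0 => ?_⟩
  · rw [← hMq]; exact hker hb
  · refine (Submodule.eq_bot_iff _).2 fun a ha => hinjA' ?_
    rw [map_zero, ← ρB.commutes]; exact ha
  refine le_antisymm (fun b hb => ?_) hle
  by_contra hbd
  have hKL : IsAlgebraic A (ρB b) := by
    let : Algebra K L' := (IsFractionRing.lift hinjA').toAlgebra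
    have : IsScalarTower A K L' :=
      IsScalarTower.of_algebraMap_eq fun r => (IsFractionRing.lift_algebraMap hinjA' r).symm
    rw [IsFractionRing.isAlgebraic_iff A K L']
    have : IsScalarTower V K L' := IsScalarTower.of_algebraMap_eq fun v => by
      obtain ⟨x, dd, hdd, hv⟩ := IsFractionRing.div_surjective A (v : K)
      show algebraMap V L' v = IsFractionRing.lift hinjA' (v : K)
      rw [← hv, map_div₀, IsFractionRing.lift_algebraMap, IsFractionRing.lift_algebraMap, eq_div_iff
        (fun h0 => nonZeroDivisors.ne_zero hdd (hinjA' (h0.trans (map_zero _).symm))),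
        IsScalarTower.algebraMap_apply A V L', IsScalarTower.algebraMap_apply A V L', ← map_mul]
      congr 1
      apply Subtype.ext
      show (v : K) * algebraMap A K dd = algebraMap A K x
      rw [← hv, div_mul_cancel₀ _ (IsFractionRing.to_map_ne_zero_of_mem_nonZeroDivisors hdd)]
    exact (halg (ψ b)).extendScalars (R := V) (S := K) Subtype.val_injective
  obtain ⟨p, hp0, hp⟩ := hKL.exists_nonzero_coeff_and_aeval_eq_zero (mem_nonZeroDivisors_of_ne_zero hbd)
  have h1 : Polynomial.aeval b p ∈ Q₁ := hle (show ρB (Polynomial.aeval b p) = 0 by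
    rw [← Polynomial.aeval_algHom_apply]; exact hp)
  rw [← Polynomial.X_mul_divX_add p, map_add, map_mul, Polynomial.aeval_X, Polynomial.aeval_C] at h1
  have h2 : p.coeff 0 ∈ Q₁.under A := (Submodule.add_mem_iff_right _ (Q₁.mul_mem_right _ hb)).1 h1
  rw [h0] at h2
  exact hp0 h2

end Groth.Agent.FMClosedSpec
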